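import Cfsg.Agent.HNRep.Check0
import Cfsg.Agent.HNRep.Check1
import Cfsg.Agent.HNRep.Check2
import Cfsg.Agent.HNRep.Check3
import Cfsg.Agent.HNRep.Check4
import Cfsg.Agent.HNRep.Check5
import Cfsg.Agent.HNRep.Check6
import Cfsg.Agent.HNRep.Check7
import Cfsg.Agent.HNRep.Check8
import Cfsg.Agent.HNRep.Check9
import Cfsg.Agent.HNRep.Check10

/-! Machine-generated: the words are products of the checked matrices. -/

set_option maxRecDepth 100000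

namespace Cfsg.Agent.HNRep

/-- The matrices of the letters. -/
def letterMat : List (List ℕ) := [m11, m0, m1, m2, m3, m4, m5, m6, m4]

/-- The value of a word. -/
noncomputable def wordMat (w : List ℕ) : Matrix (Fin 133) (Fin 133) (ZMod 41) :=
  (w.map fun l => toMat (letterMat.getD l [])).prod

theorem one_eq : toMat m11 = 1 :=
  toMat_id (by decide +kernel)

theorem wordMat_append (u v : List ℕ) : wordMat (u ++ v) = wordMat u * wordMat v := by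
  simp [wordMat]

theorem w3 : wordMat [3] = toMat m2 := by
  simp [wordMat, letterMat]

theorem w10 : wordMat [3, 3] = toMat m9 := by
  rw [show [3, 3] = [3] ++ [3] from rfl, wordMat_append, w3, p2_2]

theorem w11 : wordMat [3, 3, 3] = toMat m10 := by
  rw [show [3, 3, 3] = [3] ++ [3, 3] from rfl, wordMat_append, w3, w10, p2_9]

theorem w12 : wordMat [3, 3, 3, 3, 3, 3] = toMat m11 := by
  rw [show [3, 3, 3, 3, 3, 3] = [3, 3, 3] ++ [3, 3, 3] from rfl, wordMat_append, w11, p10_10]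

theorem w1 : wordMat [1] = toMat m0 := by
  simp [wordMat, letterMat]

theorem w9 : wordMat [1, 1] = toMat m8 := by
  rw [show [1, 1] = [1] ++ [1] from rfl, wordMat_append, w1, p0_0]

theorem w13 : wordMat [1, 1, 3] = toMat m12 := by
  rw [show [1, 1, 3] = [1, 1] ++ [3] from rfl, wordMat_append, w9, w3, p8_2]

theorem w4 : wordMat [4] = toMat m3 := by
  simp [wordMat, letterMat]

theorem w14 : wordMat [1, 1, 4] = toMat m13 := by
  rw [show [1, 1, 4] = [1, 1] ++ [4] from rfl, wordMat_append, w9, w4, p8_3]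

theorem w15 : wordMat [1, 1, 3, 1, 1, 4] = toMat m11 := by
  rw [show [1, 1, 3, 1, 1, 4] = [1, 1, 3] ++ [1, 1, 4] from rfl, wordMat_append, w13, w14, p12_13]

theorem w2 : wordMat [2] = toMat m1 := by
  simp [wordMat, letterMat]

theorem w16 : wordMat [2, 4] = toMat m14 := by
  rw [show [2, 4] = [2] ++ [4] from rfl, wordMat_append, w2, w4, p1_3]

theorem w17 : wordMat [1, 3] = toMat m15 := by
  rw [show [1, 3] = [1] ++ [3] from rfl, wordMat_append, w1, w3, p0_2]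

theorem w18 : wordMat [2, 4, 1, 3] = toMat m16 := by
  rw [show [2, 4, 1, 3] = [2, 4] ++ [1, 3] from rfl, wordMat_append, w16, w17, p14_15]

theorem w19 : wordMat [2, 4, 1, 3, 2, 4, 1, 3] = toMat m17 := by
  rw [show [2, 4, 1, 3, 2, 4, 1, 3] = [2, 4, 1, 3] ++ [2, 4, 1, 3] from rfl, wordMat_append, w18, p16_16]

theorem w20 : wordMat [2, 4, 1, 3, 2, 4, 1, 3, 2, 4, 1, 3] = toMat m11 := by
  rw [show [2, 4, 1, 3, 2, 4, 1, 3, 2, 4, 1, 3] = [2, 4, 1, 3] ++ [2, 4, 1, 3, 2, 4, 1, 3] from rfl, wordMat_append, w18, w19, p16_17]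

theorem w21 : wordMat [2, 3, 3] = toMat m18 := by
  rw [show [2, 3, 3] = [2] ++ [3, 3] from rfl, wordMat_append, w2, w10, p1_9]

theorem w22 : wordMat [1, 3, 3, 3] = toMat m19 := by
  rw [show [1, 3, 3, 3] = [1, 3] ++ [3, 3] from rfl, wordMat_append, w17, w10, p15_9]

theorem w23 : wordMat [2, 3, 3, 1, 3, 3, 3] = toMat m20 := by
  rw [show [2, 3, 3, 1, 3, 3, 3] = [2, 3, 3] ++ [1, 3, 3, 3] from rfl, wordMat_append, w21, w22, p18_19]

theorem w24 : wordMat [2, 3, 3, 1, 3, 3, 3, 2, 3, 3, 1, 3, 3, 3] = toMat m21 := by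
  rw [show [2, 3, 3, 1, 3, 3, 3, 2, 3, 3, 1, 3, 3, 3] = [2, 3, 3, 1, 3, 3, 3] ++ [2, 3, 3, 1, 3, 3, 3] from rfl, wordMat_append, w23, p20_20]

theorem w25 : wordMat [2, 3, 3, 1, 3, 3, 3, 2, 3, 3, 1, 3, 3, 3, 2, 3, 3, 1, 3, 3, 3] = toMat m11 := by
  rw [show [2, 3, 3, 1, 3, 3, 3, 2, 3, 3, 1, 3, 3, 3, 2, 3, 3, 1, 3, 3, 3] = [2, 3, 3, 1, 3, 3, 3] ++ [2, 3, 3, 1, 3, 3, 3, 2, 3, 3, 1, 3, 3, 3] from rfl, wordMat_append, w23, w24, p20_21]

theorem w26 : wordMat [1, 3, 1, 3] = toMat m22 := by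
  rw [show [1, 3, 1, 3] = [1, 3] ++ [1, 3] from rfl, wordMat_append, w17, p15_15]

theorem w27 : wordMat [1, 3, 1, 3, 1, 3, 1, 3] = toMat m23 := by
  rw [show [1, 3, 1, 3, 1, 3, 1, 3] = [1, 3, 1, 3] ++ [1, 3, 1, 3] from rfl, wordMat_append, w26, p22_22]

theorem w28 : wordMat [1, 3, 1, 3, 1, 3, 1, 3, 1, 3, 1, 3, 1, 3, 1, 3] = toMat m11 := by
  rw [show [1, 3, 1, 3, 1, 3, 1, 3, 1, 3, 1, 3, 1, 3, 1, 3] = [1, 3, 1, 3, 1, 3, 1, 3] ++ [1, 3, 1, 3, 1, 3, 1, 3] from rfl, wordMat_append, w27, p23_23]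

theorem w29 : wordMat [1, 3, 1, 3, 3, 3] = toMat m24 := by
  rw [show [1, 3, 1, 3, 3, 3] = [1, 3, 1, 3] ++ [3, 3] from rfl, wordMat_append, w26, w10, p22_9]

theorem w30 : wordMat [1, 3, 1, 3, 3, 3, 1, 3, 1, 3, 3, 3] = toMat m25 := by
  rw [show [1, 3, 1, 3, 3, 3, 1, 3, 1, 3, 3, 3] = [1, 3, 1, 3, 3, 3] ++ [1, 3, 1, 3, 3, 3] from rfl, wordMat_append, w29, p24_24]

theorem w31 : wordMat [1, 3, 1, 3, 3, 3, 1, 3, 1, 3, 3, 3, 1, 3, 1, 3, 3, 3, 1, 3, 1, 3, 3, 3] = toMat m11 := by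
  rw [show [1, 3, 1, 3, 3, 3, 1, 3, 1, 3, 3, 3, 1, 3, 1, 3, 3, 3, 1, 3, 1, 3, 3, 3] = [1, 3, 1, 3, 3, 3, 1, 3, 1, 3, 3, 3] ++ [1, 3, 1, 3, 3, 3, 1, 3, 1, 3, 3, 3] from rfl, wordMat_append, w30, p25_25]

theorem w5 : wordMat [5] = toMat m4 := by
  simp [wordMat, letterMat]

theorem w32 : wordMat [5, 5] = toMat m11 := by
  rw [show [5, 5] = [5] ++ [5] from rfl, wordMat_append, w5, p4_4]

theorem w8 : wordMat [5, 1] = toMat m7 := by
  rw [show [5, 1] = [5] ++ [1] from rfl, wordMat_append, w5, w1, p4_0]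

theorem w33 : wordMat [5, 1, 5, 1] = toMat m11 := by
  rw [show [5, 1, 5, 1] = [5, 1] ++ [5, 1] from rfl, wordMat_append, w8, p7_7]

theorem w34 : wordMat [5, 3] = toMat m26 := by
  rw [show [5, 3] = [5] ++ [3] from rfl, wordMat_append, w5, w3, p4_2]

theorem w35 : wordMat [2, 4, 4] = toMat m27 := by
  rw [show [2, 4, 4] = [2, 4] ++ [4] from rfl, wordMat_append, w16, w4, p14_3]

theorem w36 : wordMat [5, 3, 2, 4, 4] = toMat m28 := by
  rw [show [5, 3, 2, 4, 4] = [5, 3] ++ [2, 4, 4] from rfl, wordMat_append, w34, w35, p26_27]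

theorem w37 : wordMat [2, 4, 5] = toMat m29 := by
  rw [show [2, 4, 5] = [2, 4] ++ [5] from rfl, wordMat_append, w16, w5, p14_4]

theorem w38 : wordMat [2, 4, 2, 4, 5] = toMat m30 := by
  rw [show [2, 4, 2, 4, 5] = [2, 4] ++ [2, 4, 5] from rfl, wordMat_append, w16, w37, p14_29]

theorem w39 : wordMat [5, 3, 2, 4, 4, 2, 4, 2, 4, 5] = toMat m31 := by
  rw [show [5, 3, 2, 4, 4, 2, 4, 2, 4, 5] = [5, 3, 2, 4, 4] ++ [2, 4, 2, 4, 5] from rfl, wordMat_append, w36, w38, p28_30]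

theorem w40 : wordMat [3, 1, 3, 1, 3] = toMat m32 := by
  rw [show [3, 1, 3, 1, 3] = [3] ++ [1, 3, 1, 3] from rfl, wordMat_append, w3, w26, p2_22]

theorem w41 : wordMat [3, 1] = toMat m33 := by
  rw [show [3, 1] = [3] ++ [1] from rfl, wordMat_append, w3, w1, p2_0]

theorem w42 : wordMat [2, 2] = toMat m8 := by
  rw [show [2, 2] = [2] ++ [2] from rfl, wordMat_append, w2, p1_1]

theorem w43 : wordMat [4, 2, 2] = toMat m13 := by
  rw [show [4, 2, 2] = [4] ++ [2, 2] from rfl, wordMat_append, w4, w42, p3_8]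

theorem w44 : wordMat [3, 1, 4, 2, 2] = toMat m34 := by
  rw [show [3, 1, 4, 2, 2] = [3, 1] ++ [4, 2, 2] from rfl, wordMat_append, w41, w43, p33_13]

theorem w45 : wordMat [3, 1, 3, 1, 3, 3, 1, 4, 2, 2] = toMat m35 := by
  rw [show [3, 1, 3, 1, 3, 3, 1, 4, 2, 2] = [3, 1, 3, 1, 3] ++ [3, 1, 4, 2, 2] from rfl, wordMat_append, w40, w44, p32_34]

theorem w46 : wordMat [5, 3, 2, 4, 4, 2, 4, 2, 4, 5, 3, 1, 3, 1, 3, 3, 1, 4, 2, 2] = toMat m11 := by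
  rw [show [5, 3, 2, 4, 4, 2, 4, 2, 4, 5, 3, 1, 3, 1, 3, 3, 1, 4, 2, 2] = [5, 3, 2, 4, 4, 2, 4, 2, 4, 5] ++ [3, 1, 3, 1, 3, 3, 1, 4, 2, 2] from rfl, wordMat_append, w39, w45, p31_35]

theorem w47 : wordMat [4, 2] = toMat m36 := by
  rw [show [4, 2] = [4] ++ [2] from rfl, wordMat_append, w4, w2, p3_1]

theorem w48 : wordMat [5, 4, 2] = toMat m37 := by
  rw [show [5, 4, 2] = [5] ++ [4, 2] from rfl, wordMat_append, w5, w47, p4_36]

theorem w49 : wordMat [4, 2, 4] = toMat m38 := by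
  rw [show [4, 2, 4] = [4, 2] ++ [4] from rfl, wordMat_append, w47, w4, p36_3]

theorem w50 : wordMat [5, 4, 2, 4, 2, 4] = toMat m39 := by
  rw [show [5, 4, 2, 4, 2, 4] = [5, 4, 2] ++ [4, 2, 4] from rfl, wordMat_append, w48, w49, p37_38]

theorem w51 : wordMat [4, 5] = toMat m40 := by
  rw [show [4, 5] = [4] ++ [5] from rfl, wordMat_append, w4, w5, p3_4]

theorem w52 : wordMat [4, 4, 5] = toMat m41 := by
  rw [show [4, 4, 5] = [4] ++ [4, 5] from rfl, wordMat_append, w4, w51, p3_40]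

theorem w53 : wordMat [4, 4, 5, 3, 3, 3] = toMat m42 := by
  rw [show [4, 4, 5, 3, 3, 3] = [4, 4, 5] ++ [3, 3, 3] from rfl, wordMat_append, w52, w11, p41_10]

theorem w54 : wordMat [5, 4, 2, 4, 2, 4, 4, 4, 5, 3, 3, 3] = toMat m43 := by
  rw [show [5, 4, 2, 4, 2, 4, 4, 4, 5, 3, 3, 3] = [5, 4, 2, 4, 2, 4] ++ [4, 4, 5, 3, 3, 3] from rfl, wordMat_append, w50, w53, p39_42]

theorem w55 : wordMat [1, 3, 1] = toMat m44 := by
  rw [show [1, 3, 1] = [1, 3] ++ [1] from rfl, wordMat_append, w17, w1, p15_0]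

theorem w56 : wordMat [3, 1, 4] = toMat m45 := by
  rw [show [3, 1, 4] = [3, 1] ++ [4] from rfl, wordMat_append, w41, w4, p33_3]

theorem w57 : wordMat [1, 3, 1, 3, 1, 4] = toMat m46 := by
  rw [show [1, 3, 1, 3, 1, 4] = [1, 3, 1] ++ [3, 1, 4] from rfl, wordMat_append, w55, w56, p44_45]

theorem w58 : wordMat [2, 4, 2] = toMat m47 := by
  rw [show [2, 4, 2] = [2, 4] ++ [2] from rfl, wordMat_append, w16, w2, p14_1]

theorem w59 : wordMat [4, 4] = toMat m48 := by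
  rw [show [4, 4] = [4] ++ [4] from rfl, wordMat_append, w4, p3_3]

theorem w60 : wordMat [4, 4, 4] = toMat m10 := by
  rw [show [4, 4, 4] = [4] ++ [4, 4] from rfl, wordMat_append, w4, w59, p3_48]

theorem w61 : wordMat [2, 4, 2, 4, 4, 4] = toMat m49 := by
  rw [show [2, 4, 2, 4, 4, 4] = [2, 4, 2] ++ [4, 4, 4] from rfl, wordMat_append, w58, w60, p47_10]

theorem w62 : wordMat [1, 3, 1, 3, 1, 4, 2, 4, 2, 4, 4, 4] = toMat m50 := by
  rw [show [1, 3, 1, 3, 1, 4, 2, 4, 2, 4, 4, 4] = [1, 3, 1, 3, 1, 4] ++ [2, 4, 2, 4, 4, 4] from rfl, wordMat_append, w57, w61, p46_49]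

theorem w63 : wordMat [5, 4, 2, 4, 2, 4, 4, 4, 5, 3, 3, 3, 1, 3, 1, 3, 1, 4, 2, 4, 2, 4, 4, 4] = toMat m51 := by
  rw [show [5, 4, 2, 4, 2, 4, 4, 4, 5, 3, 3, 3, 1, 3, 1, 3, 1, 4, 2, 4, 2, 4, 4, 4] = [5, 4, 2, 4, 2, 4, 4, 4, 5, 3, 3, 3] ++ [1, 3, 1, 3, 1, 4, 2, 4, 2, 4, 4, 4] from rfl, wordMat_append, w54, w62, p43_50]

theorem w64 : wordMat [5, 3, 3] = toMat m52 := by
  rw [show [5, 3, 3] = [5, 3] ++ [3] from rfl, wordMat_append, w34, w3, p26_2]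

theorem w65 : wordMat [3, 1, 3] = toMat m53 := by
  rw [show [3, 1, 3] = [3, 1] ++ [3] from rfl, wordMat_append, w41, w3, p33_2]

theorem w66 : wordMat [5, 3, 3, 3, 1, 3] = toMat m54 := by
  rw [show [5, 3, 3, 3, 1, 3] = [5, 3, 3] ++ [3, 1, 3] from rfl, wordMat_append, w64, w65, p52_53]

theorem w67 : wordMat [1, 3, 1, 4, 2, 4] = toMat m55 := by
  rw [show [1, 3, 1, 4, 2, 4] = [1, 3, 1] ++ [4, 2, 4] from rfl, wordMat_append, w55, w49, p44_38]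

theorem w68 : wordMat [5, 3, 3, 3, 1, 3, 1, 3, 1, 4, 2, 4] = toMat m56 := by
  rw [show [5, 3, 3, 3, 1, 3, 1, 3, 1, 4, 2, 4] = [5, 3, 3, 3, 1, 3] ++ [1, 3, 1, 4, 2, 4] from rfl, wordMat_append, w66, w67, p54_55]

theorem w69 : wordMat [4, 5, 3] = toMat m57 := by
  rw [show [4, 5, 3] = [4, 5] ++ [3] from rfl, wordMat_append, w51, w3, p40_2]

theorem w70 : wordMat [2, 4, 4, 4, 5, 3] = toMat m58 := by
  rw [show [2, 4, 4, 4, 5, 3] = [2, 4, 4] ++ [4, 5, 3] from rfl, wordMat_append, w35, w69, p27_57]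

theorem w71 : wordMat [3, 3, 1] = toMat m59 := by
  rw [show [3, 3, 1] = [3, 3] ++ [1] from rfl, wordMat_append, w10, w1, p9_0]

theorem w72 : wordMat [3, 1, 3, 1] = toMat m60 := by
  rw [show [3, 1, 3, 1] = [3, 1, 3] ++ [1] from rfl, wordMat_append, w65, w1, p53_0]

theorem w73 : wordMat [3, 3, 1, 3, 1, 3, 1] = toMat m61 := by
  rw [show [3, 3, 1, 3, 1, 3, 1] = [3, 3, 1] ++ [3, 1, 3, 1] from rfl, wordMat_append, w71, w72, p59_60]

theorem w74 : wordMat [2, 4, 4, 4, 5, 3, 3, 3, 1, 3, 1, 3, 1] = toMat m62 := by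
  rw [show [2, 4, 4, 4, 5, 3, 3, 3, 1, 3, 1, 3, 1] = [2, 4, 4, 4, 5, 3] ++ [3, 3, 1, 3, 1, 3, 1] from rfl, wordMat_append, w70, w73, p58_61]

theorem w75 : wordMat [5, 3, 3, 3, 1, 3, 1, 3, 1, 4, 2, 4, 2, 4, 4, 4, 5, 3, 3, 3, 1, 3, 1, 3, 1] = toMat m63 := by
  rw [show [5, 3, 3, 3, 1, 3, 1, 3, 1, 4, 2, 4, 2, 4, 4, 4, 5, 3, 3, 3, 1, 3, 1, 3, 1] = [5, 3, 3, 3, 1, 3, 1, 3, 1, 4, 2, 4] ++ [2, 4, 4, 4, 5, 3, 3, 3, 1, 3, 1, 3, 1] from rfl, wordMat_append, w68, w74, p56_62]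

theorem w76 : wordMat [5, 4, 2, 4, 2, 4, 4, 4, 5, 3, 3, 3, 1, 3, 1, 3, 1, 4, 2, 4, 2, 4, 4, 4, 5, 3, 3, 3, 1, 3, 1, 3, 1, 4, 2, 4, 2, 4, 4, 4, 5, 3, 3, 3, 1, 3, 1, 3, 1] = toMat m11 := by
  rw [show [5, 4, 2, 4, 2, 4, 4, 4, 5, 3, 3, 3, 1, 3, 1, 3, 1, 4, 2, 4, 2, 4, 4, 4, 5, 3, 3, 3, 1, 3, 1, 3, 1, 4, 2, 4, 2, 4, 4, 4, 5, 3, 3, 3, 1, 3, 1, 3, 1] = [5, 4, 2, 4, 2, 4, 4, 4, 5, 3, 3, 3, 1, 3, 1, 3, 1, 4, 2, 4, 2, 4, 4, 4] ++ [5, 3, 3, 3, 1, 3, 1, 3, 1, 4, 2, 4, 2, 4, 4, 4, 5, 3, 3, 3, 1, 3, 1, 3, 1] from rfl, wordMat_append, w63, w75, p51_63]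

theorem w6 : wordMat [6] = toMat m5 := by
  simp [wordMat, letterMat]

theorem w77 : wordMat [6, 6] = toMat m64 := by
  rw [show [6, 6] = [6] ++ [6] from rfl, wordMat_append, w6, p5_5]

theorem w78 : wordMat [6, 6, 6] = toMat m65 := by
  rw [show [6, 6, 6] = [6] ++ [6, 6] from rfl, wordMat_append, w6, w77, p5_64]

theorem w79 : wordMat [6, 6, 6, 6, 6] = toMat m11 := by
  rw [show [6, 6, 6, 6, 6] = [6, 6] ++ [6, 6, 6] from rfl, wordMat_append, w77, w78, p64_65]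

theorem w80 : wordMat [2, 6] = toMat m66 := by
  rw [show [2, 6] = [2] ++ [6] from rfl, wordMat_append, w2, w6, p1_5]

theorem w81 : wordMat [1, 6, 6] = toMat m67 := by
  rw [show [1, 6, 6] = [1] ++ [6, 6] from rfl, wordMat_append, w1, w77, p0_64]

theorem w82 : wordMat [2, 6, 1, 6, 6] = toMat m11 := by
  rw [show [2, 6, 1, 6, 6] = [2, 6] ++ [1, 6, 6] from rfl, wordMat_append, w80, w81, p66_67]

theorem w7 : wordMat [7] = toMat m6 := by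
  simp [wordMat, letterMat]

theorem w83 : wordMat [7, 4] = toMat m68 := by
  rw [show [7, 4] = [7] ++ [4] from rfl, wordMat_append, w7, w4, p6_3]

theorem w84 : wordMat [6, 3] = toMat m69 := by
  rw [show [6, 3] = [6] ++ [3] from rfl, wordMat_append, w6, w3, p5_2]

theorem w85 : wordMat [7, 4, 6, 3] = toMat m11 := by
  rw [show [7, 4, 6, 3] = [7, 4] ++ [6, 3] from rfl, wordMat_append, w83, w84, p68_69]

theorem w86 : wordMat [5, 6] = toMat m70 := by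
  rw [show [5, 6] = [5] ++ [6] from rfl, wordMat_append, w5, w6, p4_5]

theorem w87 : wordMat [5, 6, 5, 6] = toMat m71 := by
  rw [show [5, 6, 5, 6] = [5, 6] ++ [5, 6] from rfl, wordMat_append, w86, p70_70]

theorem w88 : wordMat [5, 6, 5, 6, 5, 6] = toMat m11 := by
  rw [show [5, 6, 5, 6, 5, 6] = [5, 6] ++ [5, 6, 5, 6] from rfl, wordMat_append, w86, w87, p70_71]

theorem w89 : wordMat [1, 2] = toMat m11 := by
  rw [show [1, 2] = [1] ++ [2] from rfl, wordMat_append, w1, w2, p0_1]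

theorem w90 : wordMat [2, 1] = toMat m11 := by
  rw [show [2, 1] = [2] ++ [1] from rfl, wordMat_append, w2, w1, p1_0]

theorem w91 : wordMat [3, 4] = toMat m11 := by
  rw [show [3, 4] = [3] ++ [4] from rfl, wordMat_append, w3, w4, p2_3]

theorem w92 : wordMat [4, 3] = toMat m11 := by
  rw [show [4, 3] = [4] ++ [3] from rfl, wordMat_append, w4, w3, p3_2]

theorem w93 : wordMat [6, 7] = toMat m11 := by
  rw [show [6, 7] = [6] ++ [7] from rfl, wordMat_append, w6, w7, p5_6]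

theorem w94 : wordMat [7, 6] = toMat m11 := by
  rw [show [7, 6] = [7] ++ [6] from rfl, wordMat_append, w7, w6, p6_5]

theorem w46_inv : wordMat [8, 3, 2, 4, 4, 2, 4, 2, 4, 5, 3, 1, 3, 1, 3, 3, 1, 4, 2, 2] = toMat m11 := by
  have e : letterMat.getD 8 [] = letterMat.getD 5 [] := by
    simp only [letterMat, List.getD_cons_succ, List.getD_cons_zero]
  rw [← w46, wordMat, wordMat]
  simp only [List.map_cons, e]

/-- The relator words. -/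
def relWords : List (List ℕ) := [[3, 3, 3, 3, 3, 3],
  [1, 1, 3, 1, 1, 4],
  [2, 4, 1, 3, 2, 4, 1, 3, 2, 4, 1, 3],
  [2, 3, 3, 1, 3, 3, 3, 2, 3, 3, 1, 3, 3, 3, 2, 3, 3, 1, 3, 3, 3],
  [1, 3, 1, 3, 1, 3, 1, 3, 1, 3, 1, 3, 1, 3, 1, 3],
  [1, 3, 1, 3, 3, 3, 1, 3, 1, 3, 3, 3, 1, 3, 1, 3, 3, 3, 1, 3, 1, 3, 3, 3],
  [5, 5],
  [5, 1, 5, 1],
  [8, 3, 2, 4, 4, 2, 4, 2, 4, 5, 3, 1, 3, 1, 3, 3, 1, 4, 2, 2],
  [5, 4, 2, 4, 2, 4, 4, 4, 5, 3, 3, 3, 1, 3, 1, 3, 1, 4, 2, 4, 2, 4, 4, 4, 5, 3, 3, 3, 1, 3, 1, 3, 1, 4, 2, 4, 2, 4, 4, 4, 5, 3, 3, 3, 1, 3, 1, 3, 1],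
  [6, 6, 6, 6, 6],
  [2, 6, 1, 6, 6],
  [7, 4, 6, 3],
  [5, 6, 5, 6, 5, 6]]

/-- The inverse words. -/
def invWords : List (List ℕ) := [[1, 2], [2, 1], [3, 4], [4, 3], [6, 7], [7, 6], [5, 5]]

theorem words_one : ∀ w ∈ relWords ++ invWords, wordMat w = 1 := by
  simp only [relWords, invWords, List.cons_append, List.nil_append, List.forall_mem_cons, List.not_mem_nil, IsEmpty.forall_iff, implies_true, and_true]
  exact ⟨w12.trans one_eq, w15.trans one_eq, w20.trans one_eq, w25.trans one_eq, w28.trans one_eq, w31.trans one_eq, w32.trans one_eq, w33.trans one_eq, w46_inv.trans one_eq, w76.trans one_eq, w79.trans one_eq, w82.trans one_eq, w85.trans one_eq, w88.trans one_eq, w89.trans one_eq, w90.trans one_eq, w91.trans one_eq, w92.trans one_eq, w93.trans one_eq, w94.trans one_eq, w32.trans one_eq⟩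

theorem x_sq : wordMat [1, 1] = toMat m8 := by
  rw [show [1, 1] = [1] ++ [1] from rfl, wordMat_append, w1, p0_0]

theorem x_sq_ne : toMat m8 ≠ 1 := by
  intro h
  have e := congrFun (congrFun h ⟨77, by decide⟩) ⟨77, by decide⟩
  revert e
  decide +kernel

end Cfsg.Agent.HNRep
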